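import Cfsg.Agent.Lib.MinusSix.Basic
import Cfsg.Agent.Lib.Linear.HermStandard
import Cfsg.Agent.Lib.Linear.OrthForms

/-! `PΩ⁻₆(q) ≅ PSU₄(q)`. -/

set_option autoImplicit false
set_option linter.unusedSectionVars false
set_option maxHeartbeats 1000000

namespace Cfsg.Lib.MinusSix

open scoped Matrix
open Cfsg.Agent.S0302 (wedgeX wedgeCo co_X X_co pfaffian)
open Cfsg.Lib.Linear

/-- `SU` is carried to `SU` by an isomorphism of fields. -/
theorem su_map_mem {A B : Type*} [Field A] [Field B] (f : A ≃+* B) {n q : ℕ}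
    {g : Matrix.SpecialLinearGroup (Fin n) A} (hg : g ∈ Cfsg.SU n A q) :
    Matrix.SpecialLinearGroup.map f.toRingHom g ∈ Cfsg.SU n B q := by
  intro x y
  have hx : ∀ x : Fin n → B, (Matrix.SpecialLinearGroup.map f.toRingHom g).1 *ᵥ x =
      fun i => f ((g.1 *ᵥ fun j => f.symm (x j)) i) := fun x => by
    funext i
    simp [Matrix.mulVec, dotProduct, map_sum]
  show Cfsg.hermForm n B q ((Matrix.SpecialLinearGroup.map f.toRingHom g).1 *ᵥ x)
    ((Matrix.SpecialLinearGroup.map f.toRingHom g).1 *ᵥ y) = Cfsg.hermForm n B q x y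
  have h : f (Cfsg.hermForm n A q (g.1 *ᵥ fun j => f.symm (x j)) (g.1 *ᵥ fun j => f.symm (y j))) =
      f (Cfsg.hermForm n A q (fun j => f.symm (x j)) fun j => f.symm (y j)) := congrArg f (hg _ _)
  simp only [Cfsg.hermForm, map_sum, map_mul, map_pow, RingEquiv.apply_symm_apply] at h
  simp only [Cfsg.hermForm, hx]
  exact h

/-- `SU` is unchanged by an isomorphism of fields. -/
theorem psu_congr {K L : Type*} [Field K] [Field L] (e : K ≃+* L) (n q : ℕ) :
    Nonempty (Cfsg.PSU n K q ≃* Cfsg.PSU n L q) := by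
  classical
  let u : Matrix.SpecialLinearGroup (Fin n) K ≃* Matrix.SpecialLinearGroup (Fin n) L :=
    { toFun := Matrix.SpecialLinearGroup.map e.toRingHom
      invFun := Matrix.SpecialLinearGroup.map e.symm.toRingHom
      left_inv := fun g => by ext i j; simp
      right_inv := fun g => by ext i j; simp
      map_mul' := map_mul _ }
  let v : Cfsg.SU n K q ≃* Cfsg.SU n L q :=
    { toFun := fun g => ⟨u g, su_map_mem e g.2⟩
      invFun := fun g => ⟨u.symm g, su_map_mem e.symm g.2⟩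
      left_inv := fun g => Subtype.ext (u.symm_apply_apply g)
      right_inv := fun g => Subtype.ext (u.apply_symm_apply g)
      map_mul' := fun g h => Subtype.ext (map_mul u g.1 h.1) }
  exact ⟨QuotientGroup.congr _ _ v (by
    ext x
    simp only [Subgroup.mem_map, Subgroup.mem_center_iff, MonoidHom.coe_coe]
    constructor
    · rintro ⟨y, hy, rfl⟩ z
      obtain ⟨w, rfl⟩ := v.surjective z
      rw [← map_mul, ← map_mul, hy]
    · intro hx
      refine ⟨v.symm x, fun z => v.injective ?_, v.apply_symm_apply x⟩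
      rw [map_mul, map_mul, v.apply_symm_apply, hx])⟩

variable {F : Type*} [Field F] {a b : F}

theorem disc_ne (hab : ∀ z₁ z₂ : F, z₁ ^ 2 + a * z₁ * z₂ + b * z₂ ^ 2 = 0 → z₁ = 0 ∧ z₂ = 0) [Finite F] :
    4 * b - a ^ 2 ≠ 0 := by
  classical
  intro h
  by_cases h2 : (2 : F) = 0
  · have ha : a = 0 := by
      have h' : a * a = 0 := by linear_combination -h + 2 * b * h2
      exact mul_self_eq_zero.mp h'
    haveI : CharP F 2 := CharTwo.of_one_ne_zero_of_two_eq_zero one_ne_zero h2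
    haveI := Fintype.ofFinite F
    obtain ⟨r, hr⟩ := FiniteField.isSquare_of_char_two (ringChar.eq F 2) b
    exact one_ne_zero (hab r 1 (by rw [ha]; linear_combination (-1 : F) * hr + b * h2)).2
  · exact one_ne_zero (neg_eq_zero.mp ((mul_eq_zero.mp (show (2 : F) * (-1) = 0 by
      have h' := (hab a (-2) (by linear_combination h)).2
      linear_combination h')).resolve_left h2))

variable [Fintype F] [Fact (∀ r : F, r ^ 2 ≠ -b + a * r)] [Fintype (QuadraticAlgebra F (-b) a)]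

/-- Conjugation is the Frobenius map. -/
theorem star_eq_pow {q : ℕ} (hq : Fintype.card F = q)
    (hK : Fintype.card (QuadraticAlgebra F (-b) a) = q ^ 2) (z : QuadraticAlgebra F (-b) a) :
    star z = z ^ q := by
  set σ := Herm.frob hK with hσ
  have hfix : ∀ r : F, σ (algebraMap F _ r) = algebraMap F _ r := fun r => by
    rw [hσ, Herm.frob_apply, ← map_pow, ← hq, FiniteField.pow_card]
  set w : QuadraticAlgebra F (-b) a := ⟨0, 1⟩ with hw
  have hz : ∀ z : QuadraticAlgebra F (-b) a, z = algebraMap F _ z.re + algebraMap F _ z.im * w := fun z => by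
    ext <;> simp [hw, QuadraticAlgebra.algebraMap_eq]
  have hww : w * w = algebraMap F _ (-b) + algebraMap F _ a * w := by
    ext <;> simp [hw, QuadraticAlgebra.algebraMap_eq]
  have h1 := congrArg σ hww
  rw [map_mul, map_add, map_mul, hfix, hfix] at h1
  have hwbar : star w = algebraMap F _ a - w := by ext <;> simp [hw, QuadraticAlgebra.algebraMap_eq]
  have h2 : (σ w - w) * (σ w - star w) = 0 := by rw [hwbar]; linear_combination h1 - hww
  rcases mul_eq_zero.mp h2 with h | h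
  · exfalso
    refine Herm.frob_ne_id hK (RingHom.ext fun z => ?_)
    rw [hz z, ← hσ, map_add, map_mul, hfix, hfix, sub_eq_zero.mp h]
    rfl
  · conv_rhs => rw [← Herm.frob_apply hK, ← hσ, hz z, map_add, map_mul, hfix, hfix, sub_eq_zero.mp h, hwbar]
    ext <;> simp [hw, QuadraticAlgebra.algebraMap_eq]
    ring

/-- The unitary condition on matrices. -/
theorem unitary_mat {q : ℕ} (hq : Fintype.card F = q) (hK : Fintype.card (QuadraticAlgebra F (-b) a) = q ^ 2)
    (g : Cfsg.SU 4 (QuadraticAlgebra F (-b) a) q) :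
    g.1.1.map (starRingEnd _) * g.1.1ᵀ = 1 := by
  refine mul_eq_one_comm.mp ?_
  refine Matrix.ext fun i j => ?_
  have h : Cfsg.hermForm 4 _ q (g.1.1 *ᵥ Pi.single i 1) (g.1.1 *ᵥ Pi.single j 1) =
      Cfsg.hermForm 4 _ q (Pi.single i 1) (Pi.single j 1) := g.2 _ _
  simp only [Cfsg.hermForm, Matrix.mulVec_single_one, Matrix.col_apply, ← star_eq_pow hq hK] at h
  rw [Matrix.mul_apply]
  simp only [Matrix.transpose_apply, Matrix.map_apply, starRingEnd_apply]
  rw [h, Finset.sum_eq_single i (fun k _ hk => by rw [Pi.single_eq_of_ne hk, zero_mul])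
    (fun h' => absurd (Finset.mem_univ i) h'), Pi.single_eq_same, one_mul]
  by_cases hij : i = j
  · rw [hij, Pi.single_eq_same, star_one, Matrix.one_apply_eq]
  · rw [Pi.single_eq_of_ne hij, star_zero, Matrix.one_apply_ne hij]

theorem squares_su {K : Type*} [Field K] [Fintype K] {q : ℕ} (hK : Fintype.card K = q ^ 2) :
    SmallIso.squares (Cfsg.SU 4 K q) = ⊤ := by
  have C := Herm.bigSpace hK (le_refl 4)
  set ψ := Herm.suToLin 4 K q
  have hψi : Function.Injective ψ := Herm.suToLin_injective 4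
  have hran : ψ.range = Herm.tvGroup (Herm.hB hK 4) := Herm.suToLin_range hK (Or.inl (le_refl 4))
  have hperf : commutator (Cfsg.SU 4 K q) = ⊤ := by
    refine Subgroup.map_injective hψi ?_
    rw [commutator_def, Subgroup.map_commutator, ← MonoidHom.range_eq_map, hran]
    exact le_antisymm (by
      rw [Subgroup.commutator_le]
      exact fun a ha b hb => mul_mem (mul_mem (mul_mem ha hb) (inv_mem ha)) (inv_mem hb))
      (Herm.Big.tv_le_commutator C)
  rw [eq_top_iff, ← hperf, commutator_def, Subgroup.commutator_le]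
  exact fun x _ y _ => SmallIso.commutator_mem_squares x y

theorem card_SU_four {K : Type*} [Field K] [Fintype K] {q : ℕ} (hK : Fintype.card K = q ^ 2) :
    (Nat.card (Cfsg.SU 4 K q) : ℤ) =
      (q : ℤ) ^ 6 * (((q : ℤ) ^ 2 - 1) * ((q : ℤ) ^ 3 + 1) * ((q : ℤ) ^ 4 - 1)) := by
  have h := Herm.card_SU (n := 4) hK (by norm_num)
  rw [Herm.card_GU hK 4] at h
  have hq := Herm.two_le_q hK
  simp [Finset.prod_range_succ, Nat.even_iff] at h
  zify [Nat.one_le_pow 2 q (by omega), Nat.one_le_pow 4 q (by omega)] at h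
  refine mul_left_cancel₀ (show ((q : ℤ) + 1) ≠ 0 by omega) ?_
  linear_combination h

/-- The representation of the unitary group on the fixed space. -/
theorem exists_rep_minus {q : ℕ} (hq : Fintype.card F = q)
    (hK : Fintype.card (QuadraticAlgebra F (-b) a) = q ^ 2) (hd : 4 * b - a ^ 2 ≠ 0) :
    ∃ φ : Cfsg.SU 4 (QuadraticAlgebra F (-b) a) q →* GL ((Fin 2 ⊕ Fin 2) ⊕ Fin 2) F,
      (∀ g, φ g ∈ Cfsg.isometryGroup F (Cfsg.quadFormMinus 2 F a b)) ∧
      ∀ z, φ z = 1 → ∃ c : QuadraticAlgebra F (-b) a, c * c = 1 ∧ z.1.1 = c • 1 := by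
  obtain ⟨c, hc⟩ : ∃ c : QuadraticAlgebra F (-b) a, c * star c = -1 := by
    obtain ⟨x, hx⟩ := Herm.exists_norm_eq hK (μ := -1) (neg_ne_zero.mpr one_ne_zero)
      (by rw [← Herm.frob_apply hK, map_neg, map_one])
    exact ⟨x, by rw [star_eq_pow hq hK, ← pow_succ', hx]⟩
  have hc0 : c ≠ 0 := fun h => by rw [h, zero_mul] at hc; exact one_ne_zero (neg_eq_zero.mp hc.symm)
  let X : ((Fin 2 ⊕ Fin 2) ⊕ Fin 2 → F) →ₗ[F] Matrix (Fin 4) (Fin 4) (QuadraticAlgebra F (-b) a) :=
    (wedgeX.restrictScalars F).comp (embSix a b c)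
  let co : Matrix (Fin 4) (Fin 4) (QuadraticAlgebra F (-b) a) →ₗ[F] ((Fin 2 ⊕ Fin 2) ⊕ Fin 2 → F) :=
    (coSix a b c).comp (wedgeCo.restrictScalars F)
  have hco : ∀ v, co (X v) = v := fun v => by
    simp only [co, X, LinearMap.comp_apply, LinearMap.restrictScalars_apply]
    rw [co_X, coSix_embSix hd hc0]
  have hclosed : ∀ (g : Cfsg.SU 4 (QuadraticAlgebra F (-b) a) q) (v : (Fin 2 ⊕ Fin 2) ⊕ Fin 2 → F),
      X (co (g.1.1 * X v * g.1.1ᵀ)) = g.1.1 * X v * g.1.1ᵀ := fun g v => by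
    simp only [co, X, LinearMap.comp_apply, LinearMap.restrictScalars_apply]
    have e : wedgeCo (g.1.1 * wedgeX (embSix a b c v) * g.1.1ᵀ) = act g.1.1 (embSix a b c v) := rfl
    rw [e, embSix_coSix hd hc0 (act_fixed g.1.2 (unitary_mat hq hK g) (embSix_fixed v)), act_spec]
  obtain ⟨φ, hφ⟩ := SmallIso.exists_hom (G := Cfsg.SU 4 (QuadraticAlgebra F (-b) a) q) X co hco
    (fun g => (LinearMap.mulLeft F g.1.1).comp (LinearMap.mulRight F g.1.1ᵀ))
    (fun M => by simp)
    (fun g h M => by simp [Matrix.mul_assoc])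
    (fun g v => by
      have := hclosed g v
      simpa [Matrix.mul_assoc] using this)
  have hφ' : ∀ g v, embSix a b c ((φ g).val *ᵥ v) = act g.1.1 (embSix a b c v) := fun g v => by
    have h := congrArg wedgeCo (hφ g v)
    simp only [X, LinearMap.comp_apply, LinearMap.restrictScalars_apply] at h
    rw [co_X] at h
    rw [h]
    simp [act, X, Matrix.mul_assoc]
  refine ⟨φ, fun g v _ => ?_, fun z hz => ?_⟩
  · show Cfsg.quadFormMinus 2 F a b ((φ g).val *ᵥ v) = Cfsg.quadFormMinus 2 F a b v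
    apply (algebraMap F (QuadraticAlgebra F (-b) a)).injective
    rw [← form_embSix hd hc, ← form_embSix hd hc, hφ', act, pfaffian, g.1.2, one_mul]
  · have hfix : ∀ w, IsTwFixed w → act z.1.1 w = w := fun w hw => by
      have h := hφ' z (coSix a b c w)
      rw [hz, Units.val_one, Matrix.one_mulVec, embSix_coSix hd hc0 hw] at h
      exact h.symm
    have hall : ∀ w, act z.1.1 w = w := fun w => by
      obtain ⟨f, g, hf, hg, e, rfl⟩ := exists_fixed_parts hd w
      rw [act_add, act_smul, hfix f hf, hfix g hg]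
    obtain ⟨ψ, -, hψ, hψker⟩ := Cfsg.Agent.S0302.exists_wedge (QuadraticAlgebra F (-b) a)
    refine hψker z.1 (Units.ext (Matrix.toLin'.injective (LinearMap.ext fun w => ?_)))
    rw [Matrix.toLin'_apply, Units.val_one, Matrix.toLin'_one, LinearMap.id_apply]
    have h := congrArg wedgeCo (hψ z.1 w)
    rw [co_X] at h
    rw [h]
    exact hall w

theorem minus_six_equiv {q : ℕ} (hq : Fintype.card F = q)
    (hK : Fintype.card (QuadraticAlgebra F (-b) a) = q ^ 2)
    (hab : ∀ z₁ z₂ : F, z₁ ^ 2 + a * z₁ * z₂ + b * z₂ ^ 2 = 0 → z₁ = 0 ∧ z₂ = 0) :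
    Nonempty (Cfsg.POmega F (Cfsg.quadFormMinus 2 F a b) ≃* Cfsg.PSU 4 (QuadraticAlgebra F (-b) a) q) := by
  classical
  obtain ⟨B, C⟩ := Orth.exists_space_minus (F := F) 2 a b hab
  have h6 : 2 ≤ Fintype.card ((Fin 2 ⊕ Fin 2) ⊕ Fin 2) := by simp
  have h' : (2 : F) ≠ 0 ∨ Fintype.card F ≠ 2 ∨ Fintype.card ((Fin 2 ⊕ Fin 2) ⊕ Fin 2) ≠ 4 :=
    Or.inr (Or.inr (by simp))
  obtain ⟨-, hi2, hi4⟩ := SmallIso.omega_facts C h6 h'
  obtain ⟨φ, hφ, hker⟩ := exists_rep_minus hq hK (disc_ne hab)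
  have hr : ∀ z, z ∈ φ.ker → ∃ c : QuadraticAlgebra F (-b) a, c * c = 1 ∧ z.1.1 = c • 1 := hker
  obtain ⟨hk2, hk1⟩ := SmallIso.card_le_roots φ.ker (fun z => z.1.1 0 0) (fun x hx y hy e => by
    obtain ⟨c, -, hc⟩ := hr x hx
    obtain ⟨d, -, hd⟩ := hr y hy
    refine Subtype.ext (Subtype.ext ?_)
    rw [hc, hd] at e
    rw [hc, hd]
    simp [Matrix.smul_apply, Matrix.one_apply] at e
    rw [e]) (fun x hx => by
    obtain ⟨c, hc1, hc⟩ := hr x hx
    rw [hc]
    simpa [Matrix.smul_apply, Matrix.one_apply] using hc1)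
  have hcent : ∀ z, φ z = 1 → z ∈ Subgroup.center _ ∧ z * z = 1 := fun z hz => by
    obtain ⟨c, h1, h2⟩ := hker z hz
    obtain ⟨hc, hs⟩ := SmallIso.scalar_central h1 h2
    exact ⟨Subgroup.mem_center_iff.mpr fun x => Subtype.ext (Subgroup.mem_center_iff.mp hc x.1), Subtype.ext hs⟩
  have hO := (Orth.counts_minus (F := F) (a := a) (b := b) 2 hab).2.2
  rw [Nat.card_eq_fintype_card (α := F), hq] at hO
  have hcard : (Nat.card ↥(Cfsg.isometryGroup F (Cfsg.quadFormMinus 2 F a b)) : ℤ) =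
      2 * Nat.card (Cfsg.SU 4 (QuadraticAlgebra F (-b) a) q) := by
    rw [hO, card_SU_four hK]
    simp [Finset.prod_range_succ]
    ring
  have hcard' : Nat.card ↥(Cfsg.isometryGroup F (Cfsg.quadFormMinus 2 F a b)) =
      2 * Nat.card (Cfsg.SU 4 (QuadraticAlgebra F (-b) a) q) := by exact_mod_cast hcard
  have hiff : (2 : QuadraticAlgebra F (-b) a) = 0 ↔ (2 : F) = 0 := by
    rw [← map_ofNat (algebraMap F (QuadraticAlgebra F (-b) a)) 2]
    exact map_eq_zero _
  by_cases h2 : (2 : F) = 0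
  · exact SmallIso.pomega_equiv C h6 h' (squares_su hK) φ hφ hcent 1 one_pos (hk1 (hiff.mpr h2))
      (by rw [hi2 h2, hcard']; omega)
  · exact SmallIso.pomega_equiv C h6 h' (squares_su hK) φ hφ hcent 2 two_pos hk2
      (by rw [hi4 h2, hcard']; omega)

end Cfsg.Lib.MinusSix
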