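import Cfsg.Agent.S0302
import Cfsg.Agent.Lib.Linear.PSUSimple

/-! The fixed space of the twisted star on the exterior square of a four-dimensional unitary space. -/

set_option autoImplicit false
set_option linter.unusedSectionVars false
set_option maxHeartbeats 1000000

namespace Cfsg.Lib.MinusSix

open scoped Matrix
open Cfsg.Agent.S0302 (wedgeX wedgeCo entry closed co_X X_co pfaffian)

section wedge

variable {K : Type*} [Field K]

/-- The exterior square of a matrix, on coordinates. -/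
def act (A : Matrix (Fin 4) (Fin 4) K) (w : Fin 3 ⊕ Fin 3 → K) : Fin 3 ⊕ Fin 3 → K :=
  wedgeCo (A * wedgeX w * Aᵀ)

/-- The standard scalar product. -/
def dot6 (u v : Fin 3 ⊕ Fin 3 → K) : K := ∑ k, u k * v k

theorem act_spec (A : Matrix (Fin 4) (Fin 4) K) (w : Fin 3 ⊕ Fin 3 → K) :
    wedgeX (act A w) = A * wedgeX w * Aᵀ := closed A w

theorem act_one (w : Fin 3 ⊕ Fin 3 → K) : act 1 w = w := by
  rw [act, Matrix.transpose_one, one_mul, mul_one, co_X]

theorem act_mul (A B : Matrix (Fin 4) (Fin 4) K) (w : Fin 3 ⊕ Fin 3 → K) : act (A * B) w = act A (act B w) := by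
  rw [act, act, act_spec, Matrix.transpose_mul]
  simp only [Matrix.mul_assoc]

theorem act_add (A : Matrix (Fin 4) (Fin 4) K) (u v : Fin 3 ⊕ Fin 3 → K) : act A (u + v) = act A u + act A v := by
  rw [act, act, act, map_add, mul_add, add_mul, map_add]

theorem act_smul (A : Matrix (Fin 4) (Fin 4) K) (c : K) (u : Fin 3 ⊕ Fin 3 → K) : act A (c • u) = c • act A u := by
  rw [act, act, map_smul, mul_smul_comm, smul_mul_assoc, map_smul]

theorem act_transpose (A : Matrix (Fin 4) (Fin 4) K) (u v : Fin 3 ⊕ Fin 3 → K) :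
    dot6 (act A u) v = dot6 u (act Aᵀ v) := by
  simp only [dot6, act, wedgeCo, LinearMap.coe_mk, AddHom.coe_mk, Fintype.sum_sum_type, Fin.sum_univ_three,
    Sum.elim_inl, Sum.elim_inr, Matrix.cons_val_zero, Matrix.cons_val_one, Matrix.cons_val_two, Matrix.head_cons,
    Matrix.tail_cons, entry, Matrix.transpose_apply]
  ring

theorem polar_six (u v : Fin 3 ⊕ Fin 3 → K) :
    Cfsg.quadFormPlus 3 K (u + v) - Cfsg.quadFormPlus 3 K u - Cfsg.quadFormPlus 3 K v =
      dot6 u (fun k => v k.swap) := by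
  simp [Cfsg.quadFormPlus, dot6, Fintype.sum_sum_type, Fin.sum_univ_three]
  ring

theorem dot6_single [DecidableEq K] (k : Fin 3 ⊕ Fin 3) (v : Fin 3 ⊕ Fin 3 → K) : dot6 (Pi.single k 1) v = v k := by
  rw [dot6, Finset.sum_eq_single k (fun b _ hb => by rw [Pi.single_eq_of_ne hb, zero_mul])
    (fun h => absurd (Finset.mem_univ k) h), Pi.single_eq_same, one_mul]

/-- An element of determinant one intertwines the exchange of the halves with its inverse transpose. -/
theorem act_swap {A B : Matrix (Fin 4) (Fin 4) K} (hA : A.det = 1) (hBA : B * Aᵀ = 1)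
    (v : Fin 3 ⊕ Fin 3 → K) : (fun k => act A v k.swap) = act B (fun k => v k.swap) := by
  classical
  have hQ : ∀ w, Cfsg.quadFormPlus 3 K (act A w) = Cfsg.quadFormPlus 3 K w := fun w => by
    rw [act, pfaffian, hA, one_mul]
  have h : ∀ u, dot6 u (act Aᵀ fun k => act A v k.swap) = dot6 u (fun k => v k.swap) := fun u => by
    rw [← act_transpose, ← polar_six, ← polar_six, ← act_add, hQ, hQ, hQ]
  have h' : act Aᵀ (fun k => act A v k.swap) = fun k => v k.swap := funext fun k => by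
    have := h (Pi.single k 1)
    rwa [dot6_single, dot6_single] at this
  rw [← h', ← act_mul, hBA, act_one]

theorem act_map {L : Type*} [Field L] (f : K →+* L) (A : Matrix (Fin 4) (Fin 4) K)
    (w : Fin 3 ⊕ Fin 3 → K) (k : Fin 3 ⊕ Fin 3) : f (act A w k) = act (A.map f) (fun j => f (w j)) k := by
  rcases k with k | k <;> fin_cases k <;> simp [act, wedgeCo, entry]

end wedge

variable {F : Type*} [Field F] {a b : F} [Fact (∀ r : F, r ^ 2 ≠ -b + a * r)]

local notation "KK" => QuadraticAlgebra F (-b) a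

/-- Vectors fixed by the twisted star. -/
def IsTwFixed (w : Fin 3 ⊕ Fin 3 → KK) : Prop := ∀ i, w (.inr i) = star (w (.inl i))

theorem IsTwFixed.swap {w : Fin 3 ⊕ Fin 3 → KK} (h : IsTwFixed w) (k : Fin 3 ⊕ Fin 3) :
    w k.swap = star (w k) := by
  rcases k with k | k
  · exact h k
  · rw [Sum.swap_inr, h k, star_star]

/-- Unitary matrices of determinant one preserve the fixed space. -/
theorem act_fixed {A : Matrix (Fin 4) (Fin 4) KK} (hA : A.det = 1)
    (hU : A.map (starRingEnd KK) * Aᵀ = 1) {w : Fin 3 ⊕ Fin 3 → KK} (hw : IsTwFixed w) :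
    IsTwFixed (act A w) := by
  intro i
  have h := congrFun (act_swap hA hU w) (.inl i)
  simp only [Sum.swap_inl] at h
  rw [h, show (fun k : Fin 3 ⊕ Fin 3 => w k.swap) = fun k => starRingEnd KK (w k) from funext fun k => hw.swap k,
    ← act_map]
  rfl

/-- Every vector is a combination of two fixed ones. -/
theorem exists_fixed_parts (hd : 4 * b - a ^ 2 ≠ 0) (w : Fin 3 ⊕ Fin 3 → KK) :
    ∃ f g : Fin 3 ⊕ Fin 3 → KK, IsTwFixed f ∧ IsTwFixed g ∧ ∃ c : KK, w = f + c • g := by
  set d : KK := ⟨0, 1⟩ - star ⟨0, 1⟩ with hdd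
  have hd0 : d ≠ 0 := by
    intro h
    have h1 := congrArg QuadraticAlgebra.re h
    have h2 := congrArg QuadraticAlgebra.im h
    simp [hdd] at h1 h2
    exact hd (by linear_combination (2 * b) * h2 - a * h1)
  have hds : star d = -d := by rw [hdd, star_sub, star_star, neg_sub]
  let g : Fin 3 ⊕ Fin 3 → KK := fun k => (w k - star (w k.swap)) / d
  have hgs : ∀ k, star (g k) = g k.swap := fun k => by
    show star ((w k - star (w k.swap)) / d) = (w k.swap - star (w k.swap.swap)) / d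
    rw [Sum.swap_swap, star_div₀, star_sub, star_star, hds, div_neg, ← neg_div, neg_sub]
  refine ⟨w - (⟨0, 1⟩ : KK) • g, g, fun i => ?_, fun i => (hgs (.inl i)).symm, ⟨0, 1⟩, by abel⟩
  have e : d * g (.inl i) = w (.inl i) - star (w (.inr i)) := mul_div_cancel₀ _ hd0
  have e' := congrArg star e
  rw [star_mul', hgs (.inl i), Sum.swap_inl, hds, star_sub, star_star] at e'
  show w (.inr i) - ⟨0, 1⟩ * g (.inr i) = star (w (.inl i) - ⟨0, 1⟩ * g (.inl i))
  rw [star_sub, star_mul', hgs (.inl i), Sum.swap_inl]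
  rw [hdd] at e'
  linear_combination e'

/-- The six coordinates over the small field, embedded. -/
noncomputable def embSix (a b : F) (c : QuadraticAlgebra F (-b) a) [Fact (∀ r : F, r ^ 2 ≠ -b + a * r)] :
    ((Fin 2 ⊕ Fin 2) ⊕ Fin 2 → F) →ₗ[F] (Fin 3 ⊕ Fin 3 → QuadraticAlgebra F (-b) a) where
  toFun v :=
    let T1 := v (.inl (.inr 0)) - v (.inl (.inl 0)) - a * v (.inl (.inl 1))
    let T2 := v (.inl (.inr 1)) - b * v (.inl (.inl 1))
    let y : QuadraticAlgebra F (-b) a :=
      ⟨(2 * b * T1 - a * T2) * (4 * b - a ^ 2)⁻¹, (-a * T1 + 2 * T2) * (4 * b - a ^ 2)⁻¹⟩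
    let x : QuadraticAlgebra F (-b) a := y + ⟨v (.inl (.inl 0)), v (.inl (.inl 1))⟩
    let z : QuadraticAlgebra F (-b) a := ⟨v (.inr 0), v (.inr 1)⟩
    Sum.elim ![x, c * y, z] ![star x, star (c * y), star z]
  map_add' u v := by
    funext k
    rcases k with k | k <;> fin_cases k <;> ext <;> simp <;> ring
  map_smul' r v := by
    funext k
    rcases k with k | k <;> fin_cases k <;> ext <;> simp <;> ring

/-- The coordinates of a fixed vector. -/
noncomputable def coSix (a b : F) (c : QuadraticAlgebra F (-b) a) [Fact (∀ r : F, r ^ 2 ≠ -b + a * r)] :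
    (Fin 3 ⊕ Fin 3 → QuadraticAlgebra F (-b) a) →ₗ[F] ((Fin 2 ⊕ Fin 2) ⊕ Fin 2 → F) where
  toFun w :=
    let y := c⁻¹ * w (.inl 1)
    let h := w (.inl 0) - y
    Sum.elim (Sum.elim ![h.re, h.im] ![2 * y.re + a * y.im + h.re + a * h.im, a * y.re + 2 * b * y.im + b * h.im])
      ![(w (.inl 2)).re, (w (.inl 2)).im]
  map_add' u v := by
    funext j
    rcases j with (j | j) | j <;> fin_cases j <;> simp <;> ring
  map_smul' r v := by
    funext j
    rcases j with (j | j) | j <;> fin_cases j <;> simp <;> ring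

variable {c : QuadraticAlgebra F (-b) a}

theorem embSix_fixed (v : (Fin 2 ⊕ Fin 2) ⊕ Fin 2 → F) : IsTwFixed (embSix a b c v) := by
  intro i
  fin_cases i <;> rfl

theorem coSix_embSix (hd : 4 * b - a ^ 2 ≠ 0) (hc : c ≠ 0) (v : (Fin 2 ⊕ Fin 2) ⊕ Fin 2 → F) :
    coSix a b c (embSix a b c v) = v := by
  have hinv := mul_inv_cancel₀ hd
  funext j
  simp only [coSix, embSix, LinearMap.coe_mk, AddHom.coe_mk, Sum.elim_inl, Matrix.cons_val_zero,
    Matrix.cons_val_one, Matrix.cons_val_two, Matrix.head_cons, Matrix.tail_cons, inv_mul_cancel_left₀ hc,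
    add_sub_cancel_left]
  rcases j with (j | j) | j <;> fin_cases j <;> simp
  · linear_combination (v (.inl (.inr 0)) - v (.inl (.inl 0)) - a * v (.inl (.inl 1))) * hinv
  · linear_combination (v (.inl (.inr 1)) - b * v (.inl (.inl 1))) * hinv

theorem embSix_coSix (hd : 4 * b - a ^ 2 ≠ 0) (hc : c ≠ 0) {w : Fin 3 ⊕ Fin 3 → KK} (hw : IsTwFixed w) :
    embSix a b c (coSix a b c w) = w := by
  have hinv := mul_inv_cancel₀ hd
  have hl : ∀ i, embSix a b c (coSix a b c w) (.inl i) = w (.inl i) := by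
    obtain ⟨y, hy⟩ : ∃ y : KK, y = c⁻¹ * w (.inl 1) := ⟨_, rfl⟩
    have hy' : w (.inl 1) = c * y := by rw [hy, mul_inv_cancel_left₀ hc]
    have key : (⟨(2 * b * (2 * y.re + a * y.im) - a * (a * y.re + 2 * b * y.im)) * (4 * b - a ^ 2)⁻¹,
        (-a * (2 * y.re + a * y.im) + 2 * (a * y.re + 2 * b * y.im)) * (4 * b - a ^ 2)⁻¹⟩ : KK) = y := by
      ext
      · simp; linear_combination y.re * hinv
      · simp; linear_combination y.im * hinv
    have e1 : ∀ p r s : F, p + r + s - r - s = p := fun p r s => by ring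
    have e2 : ∀ p r : F, p + r - r = p := fun p r => by ring
    intro i
    simp only [embSix, coSix, LinearMap.coe_mk, AddHom.coe_mk, Sum.elim_inl, Sum.elim_inr, Matrix.cons_val_zero,
      Matrix.cons_val_one, Matrix.head_cons, ← hy, e1, e2]
    rw [key]
    fin_cases i
    · show y + _ = _
      ext <;> simp
    · exact hy'.symm
    · rfl
  funext k
  rcases k with i | i
  · exact hl i
  · rw [embSix_fixed _ i, hl, ← hw i]

theorem form_embSix (hd : 4 * b - a ^ 2 ≠ 0) (hc : c * star c = -1) (v : (Fin 2 ⊕ Fin 2) ⊕ Fin 2 → F) :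
    Cfsg.quadFormPlus 3 KK (embSix a b c v) = algebraMap F KK (Cfsg.quadFormMinus 2 F a b v) := by
  have hinv := mul_inv_cancel₀ hd
  simp only [Cfsg.quadFormPlus, Fin.sum_univ_three, embSix, LinearMap.coe_mk, AddHom.coe_mk, Sum.elim_inl,
    Sum.elim_inr, Matrix.cons_val_zero, Matrix.cons_val_one, Matrix.cons_val_two, Matrix.head_cons,
    Matrix.tail_cons, star_mul']
  set y : KK := ⟨(2 * b * (v (.inl (.inr 0)) - v (.inl (.inl 0)) - a * v (.inl (.inl 1))) -
        a * (v (.inl (.inr 1)) - b * v (.inl (.inl 1)))) * (4 * b - a ^ 2)⁻¹,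
      (-a * (v (.inl (.inr 0)) - v (.inl (.inl 0)) - a * v (.inl (.inl 1))) +
        2 * (v (.inl (.inr 1)) - b * v (.inl (.inl 1)))) * (4 * b - a ^ 2)⁻¹⟩ with hy
  set h : KK := ⟨v (.inl (.inl 0)), v (.inl (.inl 1))⟩ with hh
  set z : KK := ⟨v (.inr 0), v (.inr 1)⟩ with hz
  have e1 : c * y * (star c * star y) = -(y * star y) := by linear_combination (y * star y) * hc
  rw [e1]
  have e2 : ∀ u : KK, u * star u = algebraMap F KK (QuadraticAlgebra.norm u) := fun u =>
    (QuadraticAlgebra.algebraMap_norm_eq_mul_star u).symm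
  rw [e2, e2, e2, ← map_neg, ← map_add, ← map_add]
  congr 1
  simp only [QuadraticAlgebra.norm_def, hy, hh, hz, QuadraticAlgebra.re_add, QuadraticAlgebra.im_add,
    Cfsg.quadFormMinus, Fin.sum_univ_two]
  obtain ⟨i, hi⟩ : ∃ i : F, i = (4 * b - a ^ 2)⁻¹ := ⟨_, rfl⟩
  rw [← hi] at hinv ⊢
  linear_combination
    (v (.inl (.inl 0)) * (v (.inl (.inr 0)) - v (.inl (.inl 0)) - a * v (.inl (.inl 1))) +
      v (.inl (.inl 1)) * (v (.inl (.inr 1)) - b * v (.inl (.inl 1)))) * hinv

end Cfsg.Lib.MinusSix
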